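import Mathlib.GroupTheory.Perm.Cycle.Type
import Mathlib.LinearAlgebra.Matrix.SpecialLinearGroup
import Mathlib.LinearAlgebra.Matrix.NonsingularInverse
import Mathlib.LinearAlgebra.Matrix.Rank
import Mathlib.FieldTheory.Finiteness
import Mathlib.Tactic

/-!
# Elements of order five of `SL₅(3)` (helper876)
-/

set_option autoImplicit false

namespace Cfsg.Agent.H876.E83

open Matrix

instance : Fact (Nat.Prime 3) := ⟨by norm_num⟩

/-- the space -/
abbrev V := Fin 5 → ZMod 3

variable {E : V →ₗ[ZMod 3] V}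

theorem cnt (hE : ∀ v, E (E (E (E (E v)))) = v) {W : Submodule (ZMod 3) V} (hW : ∀ w ∈ W, E w ∈ W) :
    Nat.card W ≡ Nat.card (W ⊓ LinearMap.ker (E - 1) : Submodule (ZMod 3) V) [MOD 5] := by
  classical
  have : Fact (Nat.Prime 5) := ⟨by norm_num⟩
  have : Fintype W := Fintype.ofFinite _
  let f : Function.End W := fun w => ⟨E w, hW w w.2⟩
  have hf : f ^ 5 ^ 1 = 1 := by
    funext w
    apply Subtype.ext
    exact hE w
  have h1 := Equiv.Perm.card_fixedPoints_modEq hf
  have h2 : Fintype.card (Function.fixedPoints f) =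
      Nat.card (W ⊓ LinearMap.ker (E - 1) : Submodule (ZMod 3) V) := by
    rw [← Nat.card_eq_fintype_card]
    refine Nat.card_congr ⟨fun w => ⟨w.1.1, w.1.2, ?_⟩, fun w => ⟨⟨w.1, w.2.1⟩, ?_⟩, fun w => rfl, fun w => rfl⟩
    · have h3 : E w.1.1 = w.1.1 := congrArg Subtype.val w.2
      change w.1.1 ∈ LinearMap.ker (E - 1)
      rw [LinearMap.mem_ker, LinearMap.sub_apply, h3]
      exact sub_self _
    · have h3 : w.1 ∈ LinearMap.ker (E - 1) := w.2.2
      rw [LinearMap.mem_ker, LinearMap.sub_apply, sub_eq_zero] at h3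
      exact Subtype.ext h3
  rw [h2, ← Nat.card_eq_fintype_card] at h1
  exact h1

theorem card_sub (W : Submodule (ZMod 3) V) : Nat.card W = 3 ^ Module.finrank (ZMod 3) W := by
  have : Fintype W := Fintype.ofFinite _
  rw [Nat.card_eq_fintype_card, Module.card_eq_pow_finrank (K := ZMod 3), ZMod.card]

theorem exists_fixed (hE : ∀ v, E (E (E (E (E v)))) = v) : ∃ f : V, f ≠ 0 ∧ E f = f := by
  by_contra hcon
  push Not at hcon
  have h1 := cnt hE (W := ⊤) (fun _ _ => Submodule.mem_top)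
  have h2 : (⊤ ⊓ LinearMap.ker (E - 1) : Submodule (ZMod 3) V) = ⊥ := by
    rw [top_inf_eq, Submodule.eq_bot_iff]
    intro x hx
    by_contra hx0
    rw [LinearMap.mem_ker, LinearMap.sub_apply, sub_eq_zero] at hx
    exact hcon x hx0 hx
  rw [h2, card_sub, card_sub, finrank_top, finrank_bot, Module.finrank_fin_fun] at h1
  exact absurd h1 (by decide)

/-- the cyclic family -/
def fam (E : V →ₗ[ZMod 3] V) (v : V) : Fin 5 → V := ![v, E v, E (E v), E (E (E v)), E (E (E (E v)))]

/-- a cyclic vector -/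
theorem exists_cyclic (hE : ∀ v, E (E (E (E (E v)))) = v) (h1 : ∃ v, E v ≠ v) :
    ∃ v : V, LinearIndependent (ZMod 3) (fam E v) := by
  classical
  set N : V →ₗ[ZMod 3] V := LinearMap.id + E + E ∘ₗ E + E ∘ₗ E ∘ₗ E + E ∘ₗ E ∘ₗ E ∘ₗ E with hN
  have hNa : ∀ v, N v = v + E v + E (E v) + E (E (E v)) + E (E (E (E v))) := fun v => rfl
  obtain ⟨f, hf0, hf⟩ := exists_fixed hE
  obtain ⟨a, ha⟩ := h1
  have hNf : N f ≠ 0 := by
    rw [hNa, hf, hf, hf, hf]
    intro h
    apply hf0
    have h2 : (5 : ZMod 3) • f = 0 := by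
      rw [← h]
      module
    have h3 : (2 : ZMod 3) • ((5 : ZMod 3) • f) = f := by
      rw [smul_smul]
      have : (2 : ZMod 3) * 5 = 1 := by decide
      rw [this, one_smul]
    rw [h2, smul_zero] at h3
    exact h3.symm
  obtain ⟨v, hv1, hv2⟩ : ∃ v, E v ≠ v ∧ N v ≠ 0 := by
    by_cases h2 : N a = 0
    · refine ⟨a + f, ?_, ?_⟩
      · rw [map_add, hf]
        intro h3
        exact ha (add_right_cancel h3)
      · rw [map_add, h2, zero_add]
        exact hNf
    · exact ⟨a, ha, h2⟩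
  refine ⟨v, ?_⟩
  set W : Submodule (ZMod 3) V := Submodule.span (ZMod 3) (Set.range (fam E v)) with hW
  have hmem : ∀ i, fam E v i ∈ W := fun i => Submodule.subset_span ⟨i, rfl⟩
  have hinv : ∀ w ∈ W, E w ∈ W := by
    intro w hw
    induction hw using Submodule.span_induction with
    | mem x hx =>
      obtain ⟨i, rfl⟩ := hx
      fin_cases i
      · exact hmem 1
      · exact hmem 2
      · exact hmem 3
      · exact hmem 4
      · change E (E (E (E (E v)))) ∈ W
        rw [hE]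
        exact hmem 0
    | zero => rw [map_zero]; exact W.zero_mem
    | add x y _ _ hx hy => rw [map_add]; exact W.add_mem hx hy
    | smul c x _ hx => rw [map_smul]; exact W.smul_mem c hx
  have hcnt := cnt hE hinv
  rw [card_sub, card_sub] at hcnt
  set W' : Submodule (ZMod 3) V := W ⊓ LinearMap.ker (E - 1) with hW'
  have hle : W' ≤ W := inf_le_left
  have hle2 : Module.finrank (ZMod 3) W' ≤ Module.finrank (ZMod 3) W := Submodule.finrank_mono hle
  have h5 : Module.finrank (ZMod 3) W ≤ 5 := by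
    have := Submodule.finrank_le W
    rwa [Module.finrank_fin_fun] at this
  have h1 : 1 ≤ Module.finrank (ZMod 3) W' := by
    rw [Nat.one_le_iff_ne_zero]
    intro h0
    have h2 : W' = ⊥ := Submodule.finrank_eq_zero.1 h0
    apply hv2
    have h3 : N v ∈ W' := by
      refine ⟨?_, ?_⟩
      · rw [hNa]
        exact W.add_mem (W.add_mem (W.add_mem (W.add_mem (hmem 0) (hmem 1)) (hmem 2)) (hmem 3)) (hmem 4)
      · change N v ∈ LinearMap.ker (E - 1)
        rw [LinearMap.mem_ker, LinearMap.sub_apply, Module.End.one_apply, sub_eq_zero, hNa]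
        simp only [map_add]
        rw [hE]
        change E v + E (E v) + E (E (E v)) + E (E (E (E v))) + v = _
        abel
    rw [h2, Submodule.mem_bot] at h3
    exact h3
  rw [linearIndependent_iff_card_eq_finrank_span, Fintype.card_fin]
  change 5 = Module.finrank (ZMod 3) W
  by_contra hne
  have hd : Module.finrank (ZMod 3) W ≤ 4 := by omega
  have heq : Module.finrank (ZMod 3) W' = Module.finrank (ZMod 3) W := by
    generalize Module.finrank (ZMod 3) W' = a at *
    generalize Module.finrank (ZMod 3) W = d at *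
    interval_cases d <;> interval_cases a <;> first | rfl | exact absurd hcnt (by decide)
  have h6 : W' = W := Submodule.eq_of_le_of_finrank_eq hle heq
  have h7 : v ∈ W' := by rw [h6]; exact hmem 0
  have h8 : v ∈ LinearMap.ker (E - 1) := h7.2
  rw [LinearMap.mem_ker, LinearMap.sub_apply, sub_eq_zero] at h8
  exact hv1 h8

/-- the cyclic matrix -/
def Cy : Matrix (Fin 5) (Fin 5) (ZMod 3) :=
  !![0, 0, 0, 0, 1; 1, 0, 0, 0, 0; 0, 1, 0, 0, 0; 0, 0, 1, 0, 0; 0, 0, 0, 1, 0]

theorem exists_conj {e : Matrix (Fin 5) (Fin 5) (ZMod 3)} (he : e ^ 5 = 1) (h1 : e ≠ 1) :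
    ∃ B : Matrix (Fin 5) (Fin 5) (ZMod 3), B.det ≠ 0 ∧ e * B = B * Cy := by
  have hE : ∀ v, e.mulVecLin (e.mulVecLin (e.mulVecLin (e.mulVecLin (e.mulVecLin v)))) = v := by
    intro v
    simp only [Matrix.mulVecLin_apply, Matrix.mulVec_mulVec]
    have : e * (e * (e * (e * e))) = 1 := by rw [← he]; simp only [pow_succ, pow_zero, one_mul, mul_assoc]
    rw [this, Matrix.one_mulVec]
  have hne : ∃ v, e.mulVecLin v ≠ v := by
    by_contra hcon
    push Not at hcon
    apply h1
    apply Matrix.mulVec_injective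
    funext v
    rw [Matrix.one_mulVec]
    exact hcon v
  obtain ⟨v, hv⟩ := exists_cyclic hE hne
  set B : Matrix (Fin 5) (Fin 5) (ZMod 3) := (Matrix.of (fam e.mulVecLin v))ᵀ with hB
  have hcol : ∀ j, B.col j = fam e.mulVecLin v j := fun j => rfl
  refine ⟨B, ?_, ?_⟩
  · have h2 : LinearIndependent (ZMod 3) B.col := hv
    rw [Matrix.linearIndependent_cols_iff_isUnit] at h2
    exact ((Matrix.isUnit_iff_isUnit_det _).1 h2).ne_zero
  · have hm : ∀ (M : Matrix (Fin 5) (Fin 5) (ZMod 3)) (i j), (e * M) i j = (e *ᵥ (fun k => M k j)) i :=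
      fun M i j => rfl
    ext i j
    rw [hm, Matrix.mul_apply]
    simp only [Fin.sum_univ_five, Cy]
    fin_cases j
    · simp only [Fin.zero_eta, Matrix.of_apply, Matrix.cons_val', Matrix.cons_val_zero, Matrix.cons_val,
        mul_zero, mul_one, add_zero, zero_add]
      rfl
    · simp only [Fin.mk_one, Matrix.of_apply, Matrix.cons_val', Matrix.cons_val_zero, Matrix.cons_val_one,
        Matrix.cons_val, mul_zero, mul_one, add_zero, zero_add]
      rfl
    · simp only [Fin.reduceFinMk, Matrix.of_apply, Matrix.cons_val', Matrix.cons_val_zero,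
        Matrix.cons_val_one, Matrix.cons_val, mul_zero, mul_one, add_zero, zero_add]
      rfl
    · simp only [Fin.reduceFinMk, Matrix.of_apply, Matrix.cons_val', Matrix.cons_val_zero,
        Matrix.cons_val_one, Matrix.cons_val, mul_zero, mul_one, add_zero, zero_add]
      rfl
    · simp only [Fin.reduceFinMk, Matrix.of_apply, Matrix.cons_val', Matrix.cons_val_zero,
        Matrix.cons_val_one, Matrix.cons_val, mul_zero, mul_one, add_zero]
      have h3 := congrFun (hE v) i
      exact h3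

/-- **Elements of order five in `SL₅(3)` form one class.** -/
theorem conj_five {e f : Matrix.SpecialLinearGroup (Fin 5) (ZMod 3)} (he : e ^ 5 = 1) (he1 : e ≠ 1)
    (hf : f ^ 5 = 1) (hf1 : f ≠ 1) :
    ∃ g : Matrix.SpecialLinearGroup (Fin 5) (ZMod 3), g * e * g⁻¹ = f := by
  have hc : ∀ {a : Matrix.SpecialLinearGroup (Fin 5) (ZMod 3)}, a ^ 5 = 1 → a ≠ 1 →
      ∃ B : Matrix (Fin 5) (Fin 5) (ZMod 3), B.det ≠ 0 ∧ a.1 * B = B * Cy := by
    intro a h1 h2
    refine exists_conj ?_ fun h3 => h2 (Subtype.ext h3)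
    have := congrArg Subtype.val h1
    rwa [Matrix.SpecialLinearGroup.coe_pow] at this
  obtain ⟨B, hB, hB2⟩ := hc he he1
  obtain ⟨C, hC, hC2⟩ := hc hf hf1
  -- `g₀ = C B⁻¹`
  have hBu : IsUnit B.det := isUnit_iff_ne_zero.2 hB
  have h3 : (C * B⁻¹) * e.1 = f.1 * (C * B⁻¹) := by
    have e1 : e.1 = B * Cy * B⁻¹ := by
      rw [← hB2, mul_assoc, Matrix.mul_nonsing_inv _ hBu, mul_one]
    rw [e1]
    calc C * B⁻¹ * (B * Cy * B⁻¹) = C * (B⁻¹ * B) * Cy * B⁻¹ := by simp only [mul_assoc]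
      _ = C * Cy * B⁻¹ := by rw [Matrix.nonsing_inv_mul _ hBu, mul_one]
      _ = _ := by rw [← hC2]; simp only [mul_assoc]
  have hd : (C * B⁻¹).det ≠ 0 := by
    rw [Matrix.det_mul, Matrix.det_nonsing_inv]
    refine mul_ne_zero hC ?_
    rw [Ring.inverse_eq_inv']
    exact inv_ne_zero hB
  have hd2 : (C * B⁻¹).det = 1 ∨ (C * B⁻¹).det = -1 := by
    generalize (C * B⁻¹).det = d at *
    revert d
    decide
  obtain ⟨g, hg, hg2⟩ : ∃ g : Matrix (Fin 5) (Fin 5) (ZMod 3), g.det = 1 ∧ g * e.1 = f.1 * g := by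
    rcases hd2 with h4 | h4
    · exact ⟨_, h4, h3⟩
    · refine ⟨-(C * B⁻¹), ?_, ?_⟩
      · rw [Matrix.det_neg, h4, Fintype.card_fin]
        decide
      · rw [neg_mul, h3, mul_neg]
  obtain ⟨g', hg'⟩ : ∃ g' : Matrix.SpecialLinearGroup (Fin 5) (ZMod 3), g'.1 = g := ⟨⟨g, hg⟩, rfl⟩
  have h5 : g' * e = f * g' := by
    apply Subtype.ext
    change g'.1 * e.1 = f.1 * g'.1
    rw [hg', hg2]
  refine ⟨g', ?_⟩
  rw [h5, mul_assoc, mul_inv_cancel, mul_one]

end Cfsg.Agent.H876.E83
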